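import Mathlib
import Cfsg.Agent.Lib.Helper1.BG14c.Star
import Cfsg.Agent.Lib.Helper13.BG14V
import Cfsg.Agent.Lib.Helper10.KF1
import Cfsg.Agent.S1353
import Cfsg.Agent.S1367
import Cfsg.Agent.S1368
import Cfsg.Agent.S1369
import Cfsg.Agent.S1404
import Cfsg.Agent.Lib.Helper9.SylowConj
import Cfsg.Agent.Lib.Helper1.BG14b.ConjEquiv

set_option autoImplicit false

namespace Cfsg.Agent.Lib.Helper1.BG15b

open Cfsg Cfsg.Agent.Lib.Helper18 Cfsg.Agent.Lib.Helper28.BGt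
open Cfsg.Agent.Lib.Helper1.BG14b Cfsg.Agent.Lib.Helper1.BG14c

variable {G : Type*} [Group G] [Finite G]

structure Sig (M K U Ms : Subgroup G) : Prop where
  hG : Cfsg.IsMinSimpleOddOrder G
  hM : IsCoatom M
  hKU : Cfsg.IsSigmaDecomposition M K U
  hK1 : K ≠ ⊥
  hU1 : U ≠ ⊥
  hMs : IsCoatom Ms
  hKst : K = Cfsg.sigmaCore Ms ⊓ Subgroup.centralizer ((Cfsg.sigmaCore M ⊓ Subgroup.centralizer (K : Set G) : Subgroup G) : Set G)
  hKstH : Cfsg.IsPiHallOf (Cfsg.kappa Ms) (Cfsg.sigmaCore M ⊓ Subgroup.centralizer (K : Set G)) Ms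

namespace Sig

variable {M K U Ms : Subgroup G}

theorem pK (c : Sig M K U Ms) : (Nat.card K).Prime :=
  Cfsg.Agent.Lib.Helper13.BG14.bg14_card_K_prime c.hG c.hM c.hKU c.hK1 c.hU1

theorem K_le_Msσ (c : Sig M K U Ms) : K ≤ Cfsg.sigmaCore Ms := by
  have h := c.hKst
  intro x hx
  rw [h] at hx
  exact hx.1

theorem K_le_Ms (c : Sig M K U Ms) : K ≤ Ms := c.K_le_Msσ.trans (sigmaCore_le Ms)

theorem K_le_M (c : Sig M K U Ms) : K ≤ M := c.hKU.hall.1

theorem U_le_M (c : Sig M K U Ms) : U ≤ M := c.hKU.compl.1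

theorem p_sigma (c : Sig M K U Ms) : Nat.card K ∈ Cfsg.sigma Ms :=
  prime_sigmaCore c.hG c.hMs c.pK (Subgroup.card_dvd_of_le c.K_le_Msσ)

theorem centK (c : Sig M K U Ms) :
    Subgroup.centralizer (K : Set G) ≤ Ms ∧
      ∀ L : Subgroup G, IsCoatom L → Subgroup.centralizer (K : Set G) ≤ L → L = Ms :=
  (Cfsg.Agent.S1367.result c.hG M c.hM K U c.hKU c.hK1 Ms c.hMs c.hKst c.hKstH).2 K le_rfl c.pK

theorem cent_singleton {k : G} (c : Sig M K U Ms) (hk : k ∈ K) (hk1 : k ≠ 1) :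
    Subgroup.centralizer ({k} : Set G) = Subgroup.centralizer (K : Set G) := by
  have hz : Subgroup.zpowers k = K := by
    have h1 : Subgroup.zpowers k ≤ K := (Subgroup.zpowers_le).mpr hk
    have h2 : Nat.card (Subgroup.zpowers k) ∣ Nat.card K := Subgroup.card_dvd_of_le h1
    rcases (Nat.dvd_prime c.pK).mp h2 with h3 | h3
    · exfalso
      apply hk1
      have := Subgroup.card_eq_one.mp h3
      rwa [Subgroup.zpowers_eq_bot] at this
    · exact Subgroup.eq_of_le_of_card_ge h1 (by rw [h3])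
  apply le_antisymm
  · intro g hg
    rw [Subgroup.mem_centralizer_iff]
    intro x hx
    rw [← hz] at hx
    obtain ⟨n, rfl⟩ := Subgroup.mem_zpowers_iff.mp hx
    have h1 : g * k = k * g := Subgroup.mem_centralizer_singleton_iff.mp hg
    have h2 : Commute g k := h1
    exact ((h2.zpow_right n).eq).symm
  · exact Subgroup.centralizer_le (Set.singleton_subset_iff.mpr hk)

theorem U_inf_Ms (c : Sig M K U Ms) : U ⊓ Ms = ⊥ := by
  have h1 := (Cfsg.Agent.S1368.result c.hG M c.hM K U c.hKU c.hK1 Ms c.hMs c.hKst c.hKstH).1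
  have h2 : U ⊓ (K ⊔ Cfsg.sigmaCore M) = ⊥ := c.hKU.compl.2.2.1
  rw [eq_bot_iff, ← h2]
  apply le_inf inf_le_left
  have h3 : U ⊓ Ms ≤ M ⊓ Ms := inf_le_inf_right Ms c.U_le_M
  rw [h1] at h3
  exact h3.trans (sup_le_sup_left inf_le_left K)

theorem Uab (c : Sig M K U Ms) : IsMulCommutative U :=
  Cfsg.Agent.Lib.Helper1.BG14.U_abelian c.hG c.hM (Cfsg.Agent.Lib.Helper13.BG14.bg14_Hkappa c.hG c.hM)
    (Cfsg.Agent.Lib.Helper13.BG14.bg14_T1312 c.hG c.hM) c.hKU c.hK1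

theorem frob (c : Sig M K U Ms) :
    ∀ k ∈ K, k ≠ 1 → U ⊓ Subgroup.centralizer ({k} : Set G) = ⊥ :=
  Cfsg.Agent.S1353.result c.hG M c.hM K U c.hKU

theorem centU (c : Sig M K U Ms) :
    Cfsg.sigmaCore M ⊓ Subgroup.centralizer (U : Set G) = ⊥ :=
  Cfsg.Agent.Lib.Helper13.BG14.bg14_cent_U_eq_bot c.hG c.hM c.hKU c.hU1

theorem K_normU (c : Sig M K U Ms) : K ≤ Subgroup.normalizer (U : Set G) := c.hKU.normal

theorem Ms_of_conj (c : Sig M K U Ms) {g : G} (h : K ≤ conjSub g Ms) : conjSub g Ms = Ms := by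
  haveI : Fact (Nat.card K).Prime := ⟨c.pK⟩
  have hKp : IsPGroup (Nat.card K) K := IsPGroup.of_card (n := 1) (by rw [pow_one])
  have h1 : conjSub g⁻¹ K ≤ Ms := by
    rw [conjSub_le_iff, inv_inv]; exact h
  obtain ⟨m, hm, x, hx, hgx⟩ :=
    (Cfsg.Agent.S1404.result c.hG Ms c.hMs (Nat.card K) c.p_sigma K hKp c.hK1 c.K_le_Ms).1 g⁻¹ h1
  have hg : g⁻¹ ∈ Ms := by
    rw [hgx]; exact Ms.mul_mem hm (c.centK.1 hx)
  have hg' : g ∈ Ms := by
    have := Ms.inv_mem hg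
    rwa [inv_inv] at this
  exact conjSub_eq_of_mem_normalizer (Subgroup.le_normalizer hg')

theorem K_comm (c : Sig M K U Ms) : K ≤ Subgroup.centralizer (K : Set G) := by
  haveI := c.hKU.cyclic
  intro a ha
  rw [Subgroup.mem_centralizer_iff]
  intro b hb
  have := (IsCyclic.commGroup (α := K)).mul_comm ⟨b, hb⟩ ⟨a, ha⟩
  exact congrArg Subtype.val this

theorem mem_Ms_of_conj (c : Sig M K U Ms) {g : G} (h : conjSub g K ≤ Ms) : g ∈ Ms := by
  haveI : Fact (Nat.card K).Prime := ⟨c.pK⟩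
  have hKp : IsPGroup (Nat.card K) K := IsPGroup.of_card (n := 1) (by rw [pow_one])
  obtain ⟨m, hm, x, hx, hgx⟩ :=
    (Cfsg.Agent.S1404.result c.hG Ms c.hMs (Nat.card K) c.p_sigma K hKp c.hK1 c.K_le_Ms).1 g h
  rw [hgx]
  exact Ms.mul_mem hm (c.centK.1 hx)

theorem pgroup_le_Ms (c : Sig M K U Ms) {T : Subgroup G} (hT : IsPGroup (Nat.card K) T)
    (hKT : K ≤ T) : T ≤ Ms := by
  haveI : Fact (Nat.card K).Prime := ⟨c.pK⟩
  by_contra hne
  have hne' : ¬ T ≤ T ⊓ Ms := fun h => hne (h.trans inf_le_right)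
  obtain ⟨x, hxT, hxn, hxN⟩ :=
    Cfsg.Agent.Lib.Helper9.exists_normalizer_not_mem T (T ⊓ Ms) hT inf_le_left hne'
  apply hxn
  refine Subgroup.mem_inf.mpr ⟨hxT, ?_⟩
  apply c.mem_Ms_of_conj
  have h1 : conjSub x K ≤ conjSub x (T ⊓ Ms) := conjSub_mono (le_inf hKT c.K_le_Ms)
  rw [conjSub_eq_of_mem_normalizer hxN] at h1
  exact h1.trans inf_le_right

theorem cent_le_conj (c : Sig M K U Ms) (g : G) {x : G} {q : ℕ} (hq : q.Prime)
    (hx : x ∈ Cfsg.sigmaCore (conjSub g M)) (hxo : orderOf x = q) :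
    Subgroup.centralizer ({x} : Set G) ≤ conjSub g M := by
  rw [sigmaCore_conjSub c.hG c.hM, mem_conjSub] at hx
  have hxo' : orderOf (g⁻¹ * x * g) = q := by
    rw [← hxo]
    have := orderOf_injective (MulAut.conj g⁻¹).toMonoidHom (MulAut.conj g⁻¹).injective x
    simpa [MulAut.conj_apply] using this
  have h1 := Cfsg.Agent.Lib.Helper13.BG14.bg14_fitting_TI_sigma c.hG c.hM c.hKU c.hK1 c.hU1 hq hx hxo'
  have h2 := (centralizer_conj_le_iff g (g⁻¹ * x * g) M).mpr h1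
  have e : g * (g⁻¹ * x * g) * g⁻¹ = x := by group
  rwa [e] at h2

end Sig

end Cfsg.Agent.Lib.Helper1.BG15b
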