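import Mathlib
import Cfsg.Agent.Lib.Helper1.BG15b.SigA
import Cfsg.Agent.Lib.Helper11.ExcA
import Cfsg.Agent.S1378
import Cfsg.Agent.S1429
import Cfsg.Agent.S1432

set_option autoImplicit false

namespace Cfsg.Agent.Lib.Helper1.BG15b

open Cfsg Cfsg.Agent.Lib.Helper18 Cfsg.Agent.Lib.Helper28.BGt
open Cfsg.Agent.Lib.Helper1.BG14b Cfsg.Agent.Lib.Helper1.BG14c

variable {G : Type*} [Group G] [Finite G]

structure SigH (M K U Ms H R : Subgroup G) (r : ℕ) : Prop extends Sig M K U Ms where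
  hr : r.Prime
  hRU : R ≤ U
  hRc : Nat.card R = r ^ (Nat.card U).factorization r
  hrU : r ∣ Nat.card U
  hNU : Subgroup.normalizer (U : Set G) ≤ Subgroup.normalizer (R : Set G)
  hH : IsCoatom H
  hNR : Subgroup.normalizer (R : Set G) ≤ H

namespace SigH

variable {M K U Ms H R : Subgroup G} {r : ℕ}

theorem NU_le_H (d : SigH M K U Ms H R r) : Subgroup.normalizer (U : Set G) ≤ H :=
  d.hNU.trans d.hNR

theorem U_le_H (d : SigH M K U Ms H R r) : U ≤ H :=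
  Subgroup.le_normalizer.trans d.NU_le_H

theorem K_le_H (d : SigH M K U Ms H R r) : K ≤ H :=
  d.toSig.K_normU.trans d.NU_le_H

theorem R_le_H (d : SigH M K U Ms H R r) : R ≤ H := d.hRU.trans d.U_le_H

theorem primeU (d : SigH M K U Ms H R r) :
    r ∉ Cfsg.sigma M ∧ r ∉ Cfsg.kappa M ∧ r ∣ Nat.card M ∧
      ¬ r ∣ Nat.card (K ⊔ Cfsg.sigmaCore M : Subgroup G) :=
  Cfsg.Agent.Lib.Helper13.BG14.bg14_prime_U d.hG d.hM d.hKU d.hr d.hrU

theorem R_sylow (d : SigH M K U Ms H R r) : IsSylowIn r R M := by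
  haveI : Fact r.Prime := ⟨d.hr⟩
  refine ⟨d.hRU.trans d.toSig.U_le_M, IsPGroup.of_card d.hRc, ?_⟩
  intro hdvd
  have hcardM := Cfsg.Agent.Lib.Helper1.BG15.card_of_isComplIn d.hKU.compl
  have h2 := Cfsg.Agent.Lib.Helper1.BG12.card_mul_relIndex_of_le (d.hRU.trans d.toSig.U_le_M)
  have hfac : (Nat.card M).factorization r = (Nat.card U).factorization r := by
    rw [hcardM, Nat.factorization_mul (Nat.card_pos).ne' (Nat.card_pos).ne']
    simp [Nat.factorization_eq_zero_of_not_dvd d.primeU.2.2.2]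
  have h3 : r ^ ((Nat.card U).factorization r + 1) ∣ Nat.card M := by
    rw [← h2, d.hRc, pow_succ]
    exact Nat.mul_dvd_mul_left _ hdvd
  have h4 := (d.hr.pow_dvd_iff_le_factorization (Nat.card_pos).ne').mp h3
  rw [hfac] at h4
  omega

theorem nM (d : SigH M K U Ms H R r) : ∀ g : G, H ≠ conjSub g M := by
  intro g hHg
  haveI : Fact r.Prime := ⟨d.hr⟩
  have h1 : Subgroup.normalizer (R : Set G) ≤ conjSub g M := hHg ▸ d.hNR
  have h2 : Subgroup.normalizer ((conjSub g⁻¹ R : Subgroup G) : Set G) ≤ M := by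
    rw [Cfsg.Agent.Lib.Helper11.ExcA.normalizer_conjSub, conjSub_le_iff, inv_inv]
    exact h1
  have hRM : conjSub g⁻¹ R ≤ M := Subgroup.le_normalizer.trans h2
  have hsyl : IsSylowIn r (conjSub g⁻¹ R) M := by
    refine ⟨hRM, conjSub_isPGroup d.R_sylow.isPGroup, ?_⟩
    have e1 := Cfsg.Agent.Lib.Helper1.BG12.card_mul_relIndex_of_le hRM
    have e2 := Cfsg.Agent.Lib.Helper1.BG12.card_mul_relIndex_of_le d.R_sylow.le
    rw [card_conjSub] at e1
    have hpos : 0 < Nat.card R := Nat.card_pos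
    have e3 : (conjSub g⁻¹ R).relIndex M = R.relIndex M :=
      Nat.eq_of_mul_eq_mul_left hpos (e1.trans e2.symm)
    rw [e3]
    exact d.R_sylow.not_dvd
  obtain ⟨S, hS⟩ := hsyl.exists_sylow
  have hmap : (S : Subgroup M).map M.subtype = conjSub g⁻¹ R := by
    rw [hS, Subgroup.map_subgroupOf_eq_of_le hRM]
  apply d.primeU.1
  refine ⟨d.hr, d.primeU.2.2.1, S, ?_⟩
  rw [hmap]
  exact h2

theorem H_ne_Ms (d : SigH M K U Ms H R r) : H ≠ Ms := by
  intro h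
  apply d.hU1
  rw [eq_bot_iff, ← d.toSig.U_inf_Ms]
  exact le_inf le_rfl (h ▸ d.U_le_H)

theorem p_not_sigma_H (d : SigH M K U Ms H R r) : Nat.card K ∉ Cfsg.sigma H := by
  intro hp
  obtain ⟨g, hg⟩ := (Cfsg.Agent.S1378.result d.hG).2 Ms H d.hMs d.hH ⟨_, d.toSig.p_sigma, hp⟩
  have hg' : H = conjSub g Ms := hg
  have h1 : K ≤ conjSub g Ms := hg' ▸ d.K_le_H
  have h2 := d.toSig.Ms_of_conj h1
  exact d.H_ne_Ms (hg'.trans h2)

theorem nMs (d : SigH M K U Ms H R r) : ∀ g : G, H ≠ conjSub g Ms := by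
  intro g hg
  exact d.p_not_sigma_H (sigma_of_conj hg d.toSig.p_sigma)

theorem kappaH (d : SigH M K U Ms H R r) : Cfsg.kappa H = ∅ := by
  by_contra hne
  have hne' : (Cfsg.kappa H).Nonempty := Set.nonempty_iff_ne_empty.mpr hne
  obtain ⟨g, hg | hg⟩ := (Cfsg.Agent.S1369.result d.hG M d.hM K U d.hKU d.hK1 Ms d.hMs d.hKst
    d.hKstH).2 H d.hH hne'
  · exact d.nM g hg
  · exact d.nMs g hg

theorem p_dvd_H (d : SigH M K U Ms H R r) : Nat.card K ∣ Nat.card H :=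
  Subgroup.card_dvd_of_le d.K_le_H

theorem centK_H (d : SigH M K U Ms H R r) :
    Cfsg.sigmaCore H ⊓ Subgroup.centralizer (K : Set G) = ⊥ := by
  by_contra hne
  obtain ⟨x, hx, hx1⟩ := exists_ne_one_of_ne_bot' hne
  obtain ⟨k, hk, hk1⟩ := exists_ne_one_of_ne_bot' d.hK1
  have hxk : k * x = x * k := Subgroup.mem_centralizer_iff.mp hx.2 k hk
  have hk' : k ∈ H ⊓ Subgroup.centralizer ({x} : Set G) :=
    Subgroup.mem_inf.mpr ⟨d.K_le_H hk, Subgroup.mem_centralizer_singleton_iff.mpr hxk⟩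
  have hord : orderOf k = Nat.card K := by
    have h1 : orderOf k ∣ Nat.card K := by
      have := orderOf_dvd_natCard (⟨k, hk⟩ : K)
      rwa [Subgroup.orderOf_mk] at this
    rcases (Nat.dvd_prime d.toSig.pK).mp h1 with h2 | h2
    · exact absurd (orderOf_eq_one_iff.mp h2) hk1
    · exact h2
  have hσ : ∀ p : ℕ, p.Prime → p ∣ orderOf k → p ∉ Cfsg.sigma H := by
    intro p hp hpd
    rw [hord] at hpd
    rw [(Nat.prime_dvd_prime_iff_eq hp d.toSig.pK).mp hpd]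
    exact d.p_not_sigma_H
  rcases Cfsg.Agent.S1432.result d.hG H d.hH x hx.1 hx1 k hk' hk1 hσ with h | h
  · have := h.1 (Nat.card K) d.toSig.pK (by rw [hord])
    rw [d.kappaH] at this
    exact this
  · have h2 := h.2.2.2 Ms d.hMs (by
      rw [d.toSig.cent_singleton hk hk1]; exact d.toSig.centK.1)
    exact d.H_ne_Ms h2.symm

theorem notP1_H (d : SigH M K U Ms H R r) :
    ¬ (∀ q : ℕ, q.Prime → q ∣ Nat.card H → q ∉ Cfsg.sigma H → q ∈ Cfsg.kappa H) := by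
  intro h
  have := h _ d.toSig.pK d.p_dvd_H d.p_not_sigma_H
  rw [d.kappaH] at this
  exact this

theorem Hσ_nilp (d : SigH M K U Ms H R r) : Group.IsNilpotent (Cfsg.sigmaCore H) := by
  haveI : Fact (Nat.card K).Prime := ⟨d.toSig.pK⟩
  obtain ⟨S⟩ : Nonempty (Sylow (Nat.card K) H) := inferInstance
  have hp : Nat.card K ∉ Cfsg.sigma H ∪ Cfsg.kappa H := by
    rintro (h | h)
    · exact d.p_not_sigma_H h
    · rw [d.kappaH] at h; exact h
  exact (Cfsg.Agent.S1429.result d.hG H d.hH d.notP1_H (Nat.card K) d.p_dvd_H hp S).2.2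

theorem inf_M (d : SigH M K U Ms H R r) : Cfsg.sigmaCore M ⊓ Cfsg.sigmaCore H = ⊥ :=
  sigmaCore_inf_eq_bot d.hG d.hM d.hH d.nM

theorem inf_Ms (d : SigH M K U Ms H R r) : Cfsg.sigmaCore Ms ⊓ Cfsg.sigmaCore H = ⊥ :=
  sigmaCore_inf_eq_bot d.hG d.hMs d.hH d.nMs

theorem sigma_disj_M (d : SigH M K U Ms H R r) {q : ℕ} (hq : q ∈ Cfsg.sigma M) :
    q ∉ Cfsg.sigma H := sigma_disjoint d.hG d.hM d.hH d.nM hq

theorem sigma_disj_Ms (d : SigH M K U Ms H R r) {q : ℕ} (hq : q ∈ Cfsg.sigma Ms) :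
    q ∉ Cfsg.sigma H := sigma_disjoint d.hG d.hMs d.hH d.nMs hq

end SigH

end Cfsg.Agent.Lib.Helper1.BG15b
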