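import Mathlib
import Cfsg.Agent.Lib.Helper1.BG15b.SigB
import Cfsg.Agent.Lib.Helper28.BGtJ
import Cfsg.Agent.Lib.Helper1.BG12.TwelveFourPre
import Cfsg.Agent.S1446

set_option autoImplicit false

namespace Cfsg.Agent.Lib.Helper1.BG15b

open Cfsg Cfsg.Agent.Lib.Helper18 Cfsg.Agent.Lib.Helper28.BGt
open Cfsg.Agent.Lib.Helper1.BG14b Cfsg.Agent.Lib.Helper1.BG14c

variable {G : Type*} [Group G] [Finite G]

def omg (Q : Subgroup G) (hQc : ∀ a ∈ Q, ∀ b ∈ Q, a * b = b * a) (q : ℕ) : Subgroup G where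
  carrier := {x | x ∈ Q ∧ x ^ q = 1}
  one_mem' := ⟨Q.one_mem, one_pow q⟩
  mul_mem' := by
    rintro x y ⟨hx, hxq⟩ ⟨hy, hyq⟩
    refine ⟨Q.mul_mem hx hy, ?_⟩
    have hc : Commute x y := hQc x hx y hy
    rw [hc.mul_pow, hxq, hyq, one_mul]
  inv_mem' := by
    rintro x ⟨hx, hxq⟩
    exact ⟨Q.inv_mem hx, by rw [inv_pow, hxq, inv_one]⟩

omit [Finite G] in
theorem omg_le (Q : Subgroup G) (hQc : ∀ a ∈ Q, ∀ b ∈ Q, a * b = b * a) (q : ℕ) :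
    omg Q hQc q ≤ Q := fun _ hx => hx.1

omit [Finite G] in
theorem omg_pow {Q : Subgroup G} {hQc : ∀ a ∈ Q, ∀ b ∈ Q, a * b = b * a} {q : ℕ} {x : G}
    (hx : x ∈ omg Q hQc q) : x ^ q = 1 := hx.2

theorem omg_ne_bot (Q : Subgroup G) (hQc : ∀ a ∈ Q, ∀ b ∈ Q, a * b = b * a) (q : ℕ)
    [hq : Fact q.Prime] (hqQ : q ∣ Nat.card Q) : omg Q hQc q ≠ ⊥ := by
  obtain ⟨⟨x, hxQ⟩, hx⟩ := exists_prime_orderOf_dvd_card' q hqQ
  rw [Subgroup.orderOf_mk] at hx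
  intro h
  have hmem : x ∈ omg Q hQc q := ⟨hxQ, by rw [← hx]; exact pow_orderOf_eq_one x⟩
  rw [h, Subgroup.mem_bot] at hmem
  rw [hmem, orderOf_one] at hx
  exact hq.out.one_lt.ne hx

theorem omg_normalizer {Q N : Subgroup G} (hQc : ∀ a ∈ Q, ∀ b ∈ Q, a * b = b * a) (q : ℕ)
    (hN : N ≤ Subgroup.normalizer (Q : Set G)) :
    N ≤ Subgroup.normalizer (omg Q hQc q : Set G) := by
  intro n hn
  apply mem_normalizer_of_conjSub_le
  rintro _ ⟨x, hx, rfl⟩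
  refine ⟨conj_mem_of_le_normalizer hN hn hx.1, ?_⟩
  change (n * x * n⁻¹) ^ q = 1
  rw [conj_pow, hx.2]
  group

omit [Finite G] in
theorem omg_isPGroup (Q : Subgroup G) (hQc : ∀ a ∈ Q, ∀ b ∈ Q, a * b = b * a) (q : ℕ) :
    IsPGroup q (omg Q hQc q) := by
  rintro ⟨x, hx⟩
  exact ⟨1, Subtype.ext (by simpa using hx.2)⟩

namespace SigH

variable {M K U Ms H R : Subgroup G} {r : ℕ}

theorem frob_fix (d : SigH M K U Ms H R r) {V : Subgroup G} (hVH : V ≤ H) (hV1 : V ≠ ⊥)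
    (hKV : K ≤ Subgroup.normalizer (V : Set G))
    (hVK : V ⊓ Subgroup.centralizer (K : Set G) = ⊥)
    (hVσ : ∀ q : ℕ, q.Prime → q ∣ Nat.card V → q ∉ Cfsg.sigma H) :
    Cfsg.sigmaCore H ⊓ Subgroup.centralizer (V : Set G) ≠ ⊥ := by
  intro hCV
  have hVKb : V ⊓ K = ⊥ := by
    rw [eq_bot_iff, ← hVK]
    exact inf_le_inf_left V d.toSig.K_comm
  have hVKH : V ⊔ K ≤ H := sup_le hVH d.K_le_H
  have hsolv : Group.IsSolvable ↥(V ⊔ K) :=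
    d.hG.2.2.2 _ (ne_top_of_le_ne_top d.hH.1 hVKH)
  have hodd : Odd (Nat.card ↥(V ⊔ K)) :=
    Odd.of_dvd_nat d.hG.1 (Subgroup.card_subgroup_dvd_card _)
  have hcard : Nat.card ↥(V ⊔ K) = Nat.card K * Nat.card V := by
    rw [sup_comm]
    exact Cfsg.Agent.Lib.Helper1.BG12b.card_sup_of_inf_eq_bot hKV (by rw [inf_comm]; exact hVKb)
  have hcop : (Nat.card ↥(V ⊔ K)).Coprime (Nat.card (Cfsg.sigmaCore H)) := by
    apply Nat.coprime_of_dvd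
    intro q hq h1 h2
    have hqσ : q ∈ Cfsg.sigma H := prime_sigmaCore d.hG d.hH hq h2
    rw [hcard] at h1
    rcases (Nat.Prime.dvd_mul hq).mp h1 with h | h
    · rw [(Nat.prime_dvd_prime_iff_eq hq d.toSig.pK).mp h] at hqσ
      exact d.p_not_sigma_H hqσ
    · exact hVσ q hq h hqσ
  have hfrob : ∀ k ∈ K, k ≠ 1 → V ⊓ Subgroup.centralizer ({k} : Set G) = ⊥ := by
    intro k hk hk1
    rw [d.toSig.cent_singleton hk hk1]; exact hVK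
  have hpr : ∀ x ∈ K, x ≠ 1 → Cfsg.sigmaCore H ⊓ Subgroup.centralizer ({x} : Set G) =
      Cfsg.sigmaCore H ⊓ Subgroup.centralizer (K : Set G) := by
    intro k hk hk1
    rw [d.toSig.cent_singleton hk hk1]
  have hσ1 : Cfsg.sigmaCore H ≠ ⊥ := Cfsg.Agent.Lib.Helper1.BG12.sigmaCore_ne_bot d.hG H d.hH
  have h46 := Cfsg.Agent.S1446.result V K (Cfsg.sigmaCore H) hV1 d.hK1 hVKb hKV hfrob hsolv hodd
    hσ1 d.Hσ_nilp (hVH.trans (le_normalizer_sigmaCore H)) (d.K_le_H.trans (le_normalizer_sigmaCore H))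
    hcop hCV hpr
  have h2 := h46.2.1
  rw [d.centK_H, Subgroup.card_bot, one_pow] at h2
  exact hσ1 (Subgroup.card_eq_one.mp h2)

end SigH

end Cfsg.Agent.Lib.Helper1.BG15b
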