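import Mathlib
import Cfsg.Agent.Lib.Helper1.BG15b.SigC
import Cfsg.Agent.Lib.Helper18.BGTwelveA
import Cfsg.Agent.S1418
import Cfsg.Agent.S1420
import Cfsg.Agent.S1425

set_option autoImplicit false

namespace Cfsg.Agent.Lib.Helper1.BG15b

open Cfsg Cfsg.Agent.Lib.Helper18 Cfsg.Agent.Lib.Helper28.BGt
open Cfsg.Agent.Lib.Helper1.BG14b Cfsg.Agent.Lib.Helper1.BG14c

variable {G : Type*} [Group G] [Finite G]

namespace SigH

variable {M K U Ms H R : Subgroup G} {r : ℕ}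

theorem exists_sylow_ge (d : SigH M K U Ms H R r) {E P0 : Subgroup G}
    (hE : Cfsg.IsComplIn E (Cfsg.sigmaCore H) H) {q : ℕ} [hq : Fact q.Prime]
    (hqσ : q ∉ Cfsg.sigma H) (hP0 : IsPGroup q P0) (hP0E : P0 ≤ E) :
    ∃ S : Sylow q H, P0 ≤ (S : Subgroup H).map H.subtype ∧
      (S : Subgroup H).map H.subtype ≤ E := by
  have h1 : IsPGroup q (P0.subgroupOf E) := hP0.comap_subtype
  obtain ⟨SE, hSE⟩ := h1.exists_le_sylow
  obtain ⟨P, hPdef⟩ : ∃ P : Subgroup G, P = (SE : Subgroup E).map E.subtype := ⟨_, rfl⟩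
  have hPE : IsSylowIn q P E := hPdef ▸ isSylowIn_of_sylow SE
  have hPH : IsSylowIn q P H := by
    refine ⟨hPE.le.trans hE.1, hPE.isPGroup, ?_⟩
    rw [← Subgroup.relIndex_mul_relIndex P E H hPE.le hE.1]
    intro hd
    rcases (Nat.Prime.dvd_mul hq.out).mp hd with h | h
    · exact hPE.not_dvd h
    · rw [relIndex_compl hE] at h
      exact hqσ (prime_sigmaCore d.hG d.hH hq.out h)
  obtain ⟨S, hS⟩ := hPH.exists_sylow
  have hmap : (S : Subgroup H).map H.subtype = P := by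
    rw [hS, Subgroup.map_subgroupOf_eq_of_le hPH.le]
  refine ⟨S, ?_, ?_⟩
  · rw [hmap, hPdef]
    intro x hx
    exact ⟨⟨x, hP0E hx⟩, hSE (Subgroup.mem_subgroupOf.mpr hx), rfl⟩
  · rw [hmap]; exact hPE.le

theorem kill (d : SigH M K U Ms H R r)
    (hZ : ∃ P : Subgroup G, IsPGroup (Nat.card K) P ∧ Ms ≤ Subgroup.normalizer (P : Set G) ∧ K ≤ P)
    {E Q : Subgroup G} (hE : Cfsg.IsComplIn E (Cfsg.sigmaCore H) H) (hKE : K ≤ E) (hQE : Q ≤ E)
    (hQc : ∀ a ∈ Q, ∀ b ∈ Q, a * b = b * a) (hKQ : K ≤ Subgroup.normalizer (Q : Set G))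
    (hQK : Q ⊓ Subgroup.centralizer (K : Set G) = ⊥) (hQp : ¬ Nat.card K ∣ Nat.card Q) :
    Q = ⊥ := by
  classical
  by_contra hQ1
  have hpK := d.toSig.pK
  haveI : Fact (Nat.card K).Prime := ⟨hpK⟩
  have hc1 : Nat.card Q ≠ 1 := fun h => hQ1 (Subgroup.card_eq_one.mp h)
  obtain ⟨q, hq, hqQ⟩ := Nat.exists_prime_and_dvd hc1
  haveI : Fact q.Prime := ⟨hq⟩
  have hqp : q ≠ Nat.card K := by rintro rfl; exact hQp hqQ
  have hqE : q ∣ Nat.card E := hqQ.trans (Subgroup.card_dvd_of_le hQE)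
  have hqσ : q ∉ Cfsg.sigma H := compl_prime_not_sigma d.hG d.hH hE hq hqE
  obtain ⟨Q0, hQ0def⟩ : ∃ Q0 : Subgroup G, Q0 = omg Q hQc q := ⟨_, rfl⟩
  have hQ0Q : Q0 ≤ Q := hQ0def ▸ omg_le Q hQc q
  have hQ0E : Q0 ≤ E := hQ0Q.trans hQE
  have hQ01 : Q0 ≠ ⊥ := hQ0def ▸ omg_ne_bot Q hQc q hqQ
  have hKQ0 : K ≤ Subgroup.normalizer (Q0 : Set G) := hQ0def ▸ omg_normalizer hQc q hKQ
  have hQ0K : Q0 ⊓ Subgroup.centralizer (K : Set G) = ⊥ := by
    rw [eq_bot_iff, ← hQK]; exact inf_le_inf_right _ hQ0Q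
  have hQ0p : IsPGroup q Q0 := hQ0def ▸ omg_isPGroup Q hQc q
  have hQ0pow : ∀ y ∈ Q0, y ^ q = 1 := by
    intro y hy
    rw [hQ0def] at hy
    exact omg_pow hy
  have hqgrp : ∀ {V : Subgroup G}, IsPGroup q V →
      ∀ q' : ℕ, q'.Prime → q' ∣ Nat.card V → q' ∉ Cfsg.sigma H := by
    intro V hV q' hq' hd
    obtain ⟨n, hn⟩ := IsPGroup.iff_card.mp hV
    rw [hn] at hd
    rw [(Nat.prime_dvd_prime_iff_eq hq' hq).mp (hq'.dvd_of_dvd_pow hd)]
    exact hqσ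
  have hfix0 := d.frob_fix (hQ0E.trans hE.1) hQ01 hKQ0 hQ0K (hqgrp hQ0p)
  obtain ⟨x, hx, hx1⟩ := exists_ne_one_of_ne_bot' hfix0
  obtain ⟨x', hx'Q0, hx'1⟩ := exists_ne_one_of_ne_bot' hQ01
  have hx'o : orderOf x' = q := by
    have h1 : orderOf x' ∣ q := orderOf_dvd_of_pow_eq_one (hQ0pow x' hx'Q0)
    rcases (Nat.dvd_prime hq).mp h1 with h | h
    · exact absurd (orderOf_eq_one_iff.mp h) hx'1
    · exact h
  have hx'H : x' ∈ H ⊓ Subgroup.centralizer ({x} : Set G) := by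
    refine Subgroup.mem_inf.mpr ⟨hE.1 (hQ0E hx'Q0), ?_⟩
    rw [Subgroup.mem_centralizer_singleton_iff]
    exact Subgroup.mem_centralizer_iff.mp hx.2 x' hx'Q0
  have hσ' : ∀ p' : ℕ, p'.Prime → p' ∣ orderOf x' → p' ∉ Cfsg.sigma H := by
    intro p' hp' hd
    rw [hx'o] at hd
    rw [(Nat.prime_dvd_prime_iff_eq hp' hq).mp hd]; exact hqσ
  rcases Cfsg.Agent.S1432.result d.hG H d.hH x hx.1 hx1 x' hx'H hx'1 hσ' with h | h
  · have := h.1 q hq (by rw [hx'o])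
    rw [d.kappaH] at this
    exact this
  obtain ⟨hτ2, ⟨L, hL, hLσ⟩, -, huniq⟩ := h
  have hqτ2 : q ∈ Cfsg.tau2 H := hτ2 q hq (by rw [hx'o])
  have hqL : q ∈ Cfsg.sigma L := hLσ q hq (by rw [hx'o])
  obtain ⟨S, hQ0S, hSE⟩ := d.exists_sylow_ge hE hqσ hQ0p hQ0E
  have hqH : q ∣ Nat.card H := hqE.trans (Subgroup.card_dvd_of_le hE.1)
  have hqnot : q ∉ Cfsg.sigma H ∪ Cfsg.kappa H := by
    rintro (h | h)
    · exact hqσ h
    · rw [d.kappaH] at h; exact h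
  obtain ⟨h29a, h29b, -⟩ := Cfsg.Agent.S1429.result d.hG H d.hH d.notP1_H q hqH hqnot S
  obtain ⟨A, hAdef⟩ : ∃ A : Subgroup G,
    A = Subgroup.closure {x : G | x ∈ (S : Subgroup H).map H.subtype ∧ x ^ q = 1} := ⟨_, rfl⟩
  rw [← hAdef] at h29a h29b
  have hQ0A : Q0 ≤ A := by
    intro y hy
    rw [hAdef]
    exact Subgroup.subset_closure ⟨hQ0S hy, hQ0pow y hy⟩
  have hAS : A ≤ (S : Subgroup H).map H.subtype := by
    rw [hAdef, Subgroup.closure_le]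
    intro y hy
    exact hy.1
  have hAE : A ≤ E := hAS.trans hSE
  have hAp : IsPGroup q A := (S.isPGroup'.map H.subtype).to_le hAS
  have hne : Q0 ≠ A := by
    intro h
    apply hfix0
    rw [h]; exact h29b
  obtain ⟨n, hn⟩ := IsPGroup.iff_card.mp hQ0p
  obtain ⟨j, hj⟩ := IsPGroup.iff_card.mp hAp
  have hcardlt : Nat.card Q0 < Nat.card A := by
    by_contra hle
    push Not at hle
    exact hne (Subgroup.eq_of_le_of_card_ge hQ0A hle)
  have hn1 : n ≠ 0 := by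
    rintro rfl
    rw [pow_zero] at hn
    exact hQ01 (Subgroup.card_eq_one.mp hn)
  have hnj : n < j := by
    rw [hn, hj] at hcardlt
    exact (Nat.pow_lt_pow_iff_right hq.one_lt).mp hcardlt
  have hj2 : j ≤ 2 := by
    rw [hj] at h29a
    exact (Nat.pow_le_pow_iff_right hq.one_lt).mp h29a
  have hjeq : j = 2 := by omega
  have hAcard : Nat.card A = q ^ 2 := by rw [hj, hjeq]
  have hA1 : A ≠ ⊥ := by
    intro h
    rw [h, Subgroup.card_bot] at hAcard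
    have := hq.one_lt
    nlinarith
  have hAcomm : ∀ a b : A, a * b = b * a := IsPGroup.commutative_of_card_eq_prime_sq hAcard
  have hAcomm' : ∀ a ∈ A, ∀ b ∈ A, a * b = b * a := by
    intro a ha b hb
    exact congrArg Subtype.val (hAcomm ⟨a, ha⟩ ⟨b, hb⟩)
  have hAexp : ∀ a ∈ A, a ^ q = 1 := by
    intro a ha
    have hmem : a ∈ omg A hAcomm' q := by
      have hle : A ≤ omg A hAcomm' q := by
        conv_lhs => rw [hAdef]
        rw [Subgroup.closure_le]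
        intro y hy
        refine ⟨?_, hy.2⟩
        rw [hAdef]
        exact Subgroup.subset_closure hy
      exact hle ha
    exact omg_pow hmem
  have hAe : Cfsg.IsElementaryAbelian q A := ⟨isMulCommutative_iff.mpr hAcomm, hAexp⟩
  have hEA : E ≤ Subgroup.normalizer (A : Set G) :=
    (Cfsg.Agent.S1418.result d.hG H d.hH E hE q hqτ2 A ⟨hAE, hAe, hAcard⟩).1.1
  have hKA : K ≤ Subgroup.normalizer (A : Set G) := hKE.trans hEA
  have hAK : A ⊓ Subgroup.centralizer (K : Set G) ≠ ⊥ := by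
    intro h
    exact (d.frob_fix (hAE.trans hE.1) hA1 hKA h (hqgrp hAp)) h29b
  obtain ⟨y, hy, hy1⟩ := exists_ne_one_of_ne_bot' hAK
  have hAσL : ∀ p' : ℕ, p'.Prime → p' ∣ Nat.card A → p' ∈ Cfsg.sigma L := by
    intro p' hp' hd
    rw [hAcard] at hd
    rw [(Nat.prime_dvd_prime_iff_eq hp' hq).mp (hp'.dvd_of_dvd_pow hd)]
    exact hqL
  obtain ⟨g, hg⟩ := Cfsg.Agent.S1425.result d.hG L hL A hA1 hAσL
  obtain ⟨L', hL'def⟩ : ∃ L' : Subgroup G, L' = conjSub g⁻¹ L := ⟨_, rfl⟩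
  have hL' : IsCoatom L' := hL'def ▸ Cfsg.Agent.Lib.Helper11.BenderF.isCoatom_conjSub g⁻¹ hL
  have hAL' : A ≤ Cfsg.sigmaCore L' := by
    rw [hL'def, sigmaCore_conjSub d.hG hL, ← conjSub_le_iff]
    exact hg
  have hqL' : q ∈ Cfsg.sigma L' := sigma_of_conj hL'def hqL
  obtain ⟨E', hE'⟩ := Cfsg.Agent.Lib.Helper18.BGTwelveA.exists_complIn_sigmaCore d.hG L' hL'
  have hAnc : ¬ IsCyclic A := by
    intro hcyc
    obtain ⟨⟨a, ha⟩, hgen⟩ := hcyc.exists_generator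
    have h1 : orderOf (⟨a, ha⟩ : A) = Nat.card A := orderOf_eq_card_of_forall_mem_zpowers hgen
    rw [Subgroup.orderOf_mk, hAcard] at h1
    have h2 : orderOf a ∣ q := orderOf_dvd_of_pow_eq_one (hAexp a ha)
    rw [h1] at h2
    have h3 := Nat.le_of_dvd hq.pos h2
    have := hq.one_lt
    nlinarith
  have hNA : Subgroup.normalizer (A : Set G) ≤ L' :=
    (Cfsg.Agent.S1420.result d.hG L' hL' E' hE').2.2.1 q A hqL' hAp
      (hAL'.trans (sigmaCore_le L')) hAnc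
  have hEL' : E ≤ L' := hEA.trans hNA
  have hKL' : K ≤ L' := hKE.trans hEL'
  obtain ⟨k, hk, hk1⟩ := exists_ne_one_of_ne_bot' d.hK1
  have hkord : orderOf k = Nat.card K := by
    have h1 : orderOf k ∣ Nat.card K := by
      have := orderOf_dvd_natCard (⟨k, hk⟩ : K)
      rwa [Subgroup.orderOf_mk] at this
    rcases (Nat.dvd_prime hpK).mp h1 with h2 | h2
    · exact absurd (orderOf_eq_one_iff.mp h2) hk1
    · exact h2
  by_cases hpL' : Nat.card K ∈ Cfsg.sigma L'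
  · obtain ⟨g', hg'⟩ := (Cfsg.Agent.S1378.result d.hG).2 Ms L' d.hMs hL' ⟨_, d.toSig.p_sigma, hpL'⟩
    have hg'' : L' = conjSub g' Ms := hg'
    have h1 : K ≤ conjSub g' Ms := hg'' ▸ hKL'
    have hL'Ms : L' = Ms := hg''.trans (d.toSig.Ms_of_conj h1)
    obtain ⟨P, hPp, hPn, hKP⟩ := hZ
    have hx'Ms : x' ∈ Ms := hL'Ms ▸ (sigmaCore_le L' (hAL' (hQ0A hx'Q0)))
    have hcP : x' * k * x'⁻¹ * k⁻¹ ∈ P :=
      P.mul_mem (conj_mem_of_le_normalizer hPn hx'Ms (hKP hk)) (P.inv_mem (hKP hk))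
    have hcQ : x' * k * x'⁻¹ * k⁻¹ ∈ Q0 := by
      have e : x' * k * x'⁻¹ * k⁻¹ = x' * (k * x'⁻¹ * k⁻¹) := by group
      rw [e]
      exact Q0.mul_mem hx'Q0 (conj_mem_of_le_normalizer hKQ0 hk (Q0.inv_mem hx'Q0))
    have hdisj : Disjoint P Q0 := IsPGroup.disjoint_of_ne _ _ hqp.symm P Q0 hPp hQ0p
    have hc1 : x' * k * x'⁻¹ * k⁻¹ = 1 := by
      have := hdisj.le_bot (Subgroup.mem_inf.mpr ⟨hcP, hcQ⟩)
      rwa [Subgroup.mem_bot] at this
    have hcomm : x' * k = k * x' := by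
      calc x' * k = (x' * k * x'⁻¹ * k⁻¹) * (k * x') := by group
        _ = k * x' := by rw [hc1, one_mul]
    have hx'C : x' ∈ Subgroup.centralizer (K : Set G) := by
      rw [← d.toSig.cent_singleton hk hk1, Subgroup.mem_centralizer_singleton_iff]
      exact hcomm
    have := Subgroup.mem_inf.mpr ⟨hx'Q0, hx'C⟩
    rw [hQ0K, Subgroup.mem_bot] at this
    exact hx'1 this
  · have hyL' : y ∈ Cfsg.sigmaCore L' := hAL' hy.1
    have hyk : k * y = y * k := Subgroup.mem_centralizer_iff.mp hy.2 k hk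
    have hk' : k ∈ L' ⊓ Subgroup.centralizer ({y} : Set G) :=
      Subgroup.mem_inf.mpr ⟨hKL' hk, Subgroup.mem_centralizer_singleton_iff.mpr hyk⟩
    have hσk : ∀ p' : ℕ, p'.Prime → p' ∣ orderOf k → p' ∉ Cfsg.sigma L' := by
      intro p' hp' hd
      rw [hkord] at hd
      rw [(Nat.prime_dvd_prime_iff_eq hp' hpK).mp hd]; exact hpL'
    rcases Cfsg.Agent.S1432.result d.hG L' hL' y hyL' hy1 k hk' hk1 hσk with h | h
    · have hκ : Nat.card K ∈ Cfsg.kappa L' := h.1 _ hpK (by rw [hkord])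
      obtain ⟨g', hg' | hg'⟩ := (Cfsg.Agent.S1369.result d.hG M d.hM K U d.hKU d.hK1 Ms d.hMs d.hKst
        d.hKstH).2 L' hL' ⟨_, hκ⟩
      · have hg'' : L' = conjSub g' M := hg'
        have hx'L' : x' ∈ Cfsg.sigmaCore (conjSub g' M) := hg'' ▸ hAL' (hQ0A hx'Q0)
        have h2 := d.toSig.cent_le_conj g' hq hx'L' hx'o
        rw [← hg''] at h2
        have h3 := huniq L' hL' h2
        exact d.nM g' (h3.symm.trans hg'')
      · have hg'' : L' = conjSub g' Ms := hg'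
        exact hpL' (sigma_of_conj hg'' d.toSig.p_sigma)
    · have h2 := h.2.2.2 Ms d.hMs (by
        rw [d.toSig.cent_singleton hk hk1]; exact d.toSig.centK.1)
      rw [← h2] at hpL'
      exact hpL' d.toSig.p_sigma

end SigH

end Cfsg.Agent.Lib.Helper1.BG15b
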