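import Mathlib
import Cfsg.Agent.Lib.Helper1.BG15b.SigD
import Cfsg.Agent.Lib.Helper1.CoprimeAbelian
import Cfsg.Agent.Lib.Helper11.NilpCoprime
import Cfsg.Agent.Lib.Helper11.CNQuot

set_option autoImplicit false

namespace Cfsg.Agent.Lib.Helper1.BG15b

open Cfsg Cfsg.Agent.Lib.Helper18 Cfsg.Agent.Lib.Helper28.BGt
open Cfsg.Agent.Lib.Helper1.BG14b Cfsg.Agent.Lib.Helper1.BG14c
open scoped commutatorElement

variable {G : Type*} [Group G] [Finite G]

def pprime (D : Subgroup G) (hD : ∀ a ∈ D, ∀ b ∈ D, a * b = b * a) (p : ℕ) : Subgroup G where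
  carrier := {x | x ∈ D ∧ (orderOf x).Coprime p}
  one_mem' := ⟨D.one_mem, by simp⟩
  mul_mem' := by
    rintro x y ⟨hx, hxo⟩ ⟨hy, hyo⟩
    refine ⟨D.mul_mem hx hy, ?_⟩
    have hc : Commute x y := hD x hx y hy
    exact Nat.Coprime.coprime_dvd_left (hc.orderOf_mul_dvd_lcm.trans (Nat.lcm_dvd_mul _ _))
      (Nat.Coprime.mul_left hxo hyo)
  inv_mem' := by
    rintro x ⟨hx, hxo⟩
    exact ⟨D.inv_mem hx, by rw [orderOf_inv]; exact hxo⟩

omit [Finite G] in
theorem pprime_le (D : Subgroup G) (hD : ∀ a ∈ D, ∀ b ∈ D, a * b = b * a) (p : ℕ) :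
    pprime D hD p ≤ D := fun _ hx => hx.1

theorem pprime_normalizer {D N : Subgroup G} (hD : ∀ a ∈ D, ∀ b ∈ D, a * b = b * a) (p : ℕ)
    (hN : N ≤ Subgroup.normalizer (D : Set G)) :
    N ≤ Subgroup.normalizer (pprime D hD p : Set G) := by
  intro n hn
  apply mem_normalizer_of_conjSub_le
  rintro _ ⟨x, hx, rfl⟩
  refine ⟨conj_mem_of_le_normalizer hN hn hx.1, ?_⟩
  change (orderOf (n * x * n⁻¹)).Coprime p
  have : orderOf (n * x * n⁻¹) = orderOf x := by
    have := orderOf_injective (MulAut.conj n).toMonoidHom (MulAut.conj n).injective x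
    simpa [MulAut.conj_apply] using this
  rw [this]; exact hx.2

theorem pprime_not_dvd (D : Subgroup G) (hD : ∀ a ∈ D, ∀ b ∈ D, a * b = b * a) (p : ℕ)
    [hp : Fact p.Prime] : ¬ p ∣ Nat.card (pprime D hD p) := by
  intro hd
  obtain ⟨⟨x, hxD⟩, hx⟩ := exists_prime_orderOf_dvd_card' p hd
  rw [Subgroup.orderOf_mk] at hx
  have := hxD.2
  rw [hx, Nat.coprime_self] at this
  exact hp.out.one_lt.ne' this

theorem pPart_normalizer {D N : Subgroup G} (hD : ∀ a ∈ D, ∀ b ∈ D, a * b = b * a) (p : ℕ)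
    (hN : N ≤ Subgroup.normalizer (D : Set G)) :
    N ≤ Subgroup.normalizer (Cfsg.Agent.Lib.Helper11.pPart D hD p : Set G) := by
  intro n hn
  apply mem_normalizer_of_conjSub_le
  rintro _ ⟨x, hx, rfl⟩
  obtain ⟨hxD, k, hk⟩ := hx
  refine ⟨conj_mem_of_le_normalizer hN hn hxD, k, ?_⟩
  change (n * x * n⁻¹) ^ p ^ k = 1
  rw [conj_pow, hk]; group

omit [Finite G] in
theorem normalizer_commutator_of_le {A B N : Subgroup G}
    (hA : N ≤ Subgroup.normalizer (A : Set G)) (hB : N ≤ Subgroup.normalizer (B : Set G)) :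
    N ≤ Subgroup.normalizer ((⁅A, B⁆ : Subgroup G) : Set G) := by
  intro g hg
  rw [Subgroup.mem_normalizer_iff_map_conj_eq, Subgroup.map_commutator]
  have h1 : A.map (MulAut.conj g).toMonoidHom = A :=
    conjSub_eq_of_mem_normalizer (hA hg)
  have h2 : B.map (MulAut.conj g).toMonoidHom = B :=
    conjSub_eq_of_mem_normalizer (hB hg)
  change ⁅A.map (MulAut.conj g).toMonoidHom, B.map (MulAut.conj g).toMonoidHom⁆ = _
  rw [h1, h2]

namespace SigH

variable {M K U Ms H R : Subgroup G} {r : ℕ}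

theorem E_le_Ms (d : SigH M K U Ms H R r)
    (hZ : ∃ P : Subgroup G, IsPGroup (Nat.card K) P ∧ Ms ≤ Subgroup.normalizer (P : Set G) ∧ K ≤ P)
    {E : Subgroup G} (hE : Cfsg.IsComplIn E (Cfsg.sigmaCore H) H) (hKE : K ≤ E) : E ≤ Ms := by
  classical
  have hpK := d.toSig.pK
  haveI : Fact (Nat.card K).Prime := ⟨hpK⟩
  have hKp : IsPGroup (Nat.card K) K := IsPGroup.of_card (n := 1) (by rw [pow_one])
  obtain ⟨D, hDdef⟩ : ∃ D : Subgroup G, D = ⁅E, E⁆ := ⟨_, rfl⟩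
  have hDcomm0 : IsMulCommutative ↥⁅E, E⁆ := (Cfsg.Agent.S1420.result d.hG H d.hH E hE).2.1
  have hDc : ∀ a ∈ D, ∀ b ∈ D, a * b = b * a := by
    subst hDdef
    intro a ha b hb
    exact congrArg Subtype.val ((isMulCommutative_iff.mp hDcomm0) ⟨a, ha⟩ ⟨b, hb⟩)
  have hDE : D ≤ E := by
    rw [hDdef, Subgroup.commutator_le]
    intro a ha b hb
    exact E.mul_mem (E.mul_mem (E.mul_mem ha hb) (E.inv_mem ha)) (E.inv_mem hb)
  have hEND : E ≤ Subgroup.normalizer (D : Set G) := hDdef ▸ le_normalizer_derived' E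
  have hKND : K ≤ Subgroup.normalizer (D : Set G) := hKE.trans hEND
  obtain ⟨D1, hD1def⟩ : ∃ D1 : Subgroup G, D1 = pprime D hDc (Nat.card K) := ⟨_, rfl⟩
  have hD1D : D1 ≤ D := hD1def ▸ pprime_le D hDc _
  have hKD1 : K ≤ Subgroup.normalizer (D1 : Set G) := hD1def ▸ pprime_normalizer hDc _ hKND
  have hD1p : ¬ Nat.card K ∣ Nat.card D1 := hD1def ▸ pprime_not_dvd D hDc (Nat.card K)
  have hD1c : ∀ a ∈ D1, ∀ b ∈ D1, a * b = b * a := fun a ha b hb => hDc a (hD1D ha) b (hD1D hb)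
  haveI : IsMulCommutative D1 := isMulCommutative_iff.mpr (fun a b => Subtype.ext (hD1c a a.2 b b.2))
  have hcop : (Nat.card K).Coprime (Nat.card D1) := (Nat.Prime.coprime_iff_not_dvd hpK).mpr hD1p
  obtain ⟨hbot, hsup⟩ := Cfsg.Agent.Lib.Helper1.coprime_abelian_decomposition K D1 hKD1 hcop
  have hQle : ⁅D1, K⁆ ≤ D1 := by
    rw [Subgroup.commutator_le]
    intro a ha k hk
    have e : ⁅a, k⁆ = a * (k * a⁻¹ * k⁻¹) := by rw [commutatorElement_def]; group
    rw [e]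
    exact D1.mul_mem ha (conj_mem_of_le_normalizer hKD1 hk (D1.inv_mem ha))
  have hKQ : K ≤ Subgroup.normalizer ((⁅D1, K⁆ : Subgroup G) : Set G) :=
    normalizer_commutator_of_le hKD1 Subgroup.le_normalizer
  have hQ : ⁅D1, K⁆ = ⊥ := by
    apply d.kill hZ hE hKE ((hQle.trans hD1D).trans hDE)
      (fun a ha b hb => hD1c a (hQle ha) b (hQle hb)) hKQ
    · rw [eq_bot_iff, ← hbot]
      exact le_inf (le_inf (inf_le_left.trans hQle) inf_le_right) inf_le_left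
    · intro hd
      exact hD1p (hd.trans (Subgroup.card_dvd_of_le hQle))
  have hD1C : D1 ≤ Subgroup.centralizer (K : Set G) := by
    rw [hQ, sup_bot_eq] at hsup
    rw [← hsup]; exact inf_le_right
  obtain ⟨Dp, hDpdef⟩ : ∃ Dp : Subgroup G,
    Dp = Cfsg.Agent.Lib.Helper11.pPart D hDc (Nat.card K) := ⟨_, rfl⟩
  have hKDp : K ≤ Subgroup.normalizer (Dp : Set G) := hDpdef ▸ pPart_normalizer hDc _ hKND
  have hDpp : IsPGroup (Nat.card K) Dp := hDpdef ▸ Cfsg.Agent.Lib.Helper11.pPart_isPGroup D hDc _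
  have hT : IsPGroup (Nat.card K) (K ⊔ Dp : Subgroup G) :=
    IsPGroup.to_sup_of_normal_right' hKp hDpp hKDp
  have hTMs : K ⊔ Dp ≤ Ms := d.toSig.pgroup_le_Ms hT le_sup_left
  intro e he
  apply d.toSig.mem_Ms_of_conj
  rintro _ ⟨k, hk, rfl⟩
  change e * k * e⁻¹ ∈ Ms
  obtain ⟨c, hcdef⟩ : ∃ c : G, c = e * k * e⁻¹ * k⁻¹ := ⟨_, rfl⟩
  have hcD : c ∈ D := by
    rw [hcdef, hDdef, ← commutatorElement_def]
    exact Subgroup.commutator_mem_commutator he (hKE hk)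
  obtain ⟨u, v, hu, hv, hcuv, ⟨i, hui⟩, hvcop⟩ :=
    Cfsg.Agent.Lib.Helper11.exists_p_parts (Nat.card K) hpK c (orderOf_pos c)
  have hzD : Subgroup.zpowers c ≤ D := Subgroup.zpowers_le.mpr hcD
  have huD : u ∈ D := hzD hu
  have hvD : v ∈ D := hzD hv
  have hvD1 : v ∈ D1 := by rw [hD1def]; exact ⟨hvD, hvcop⟩
  have huDp : u ∈ Dp := by rw [hDpdef]; exact ⟨huD, i, hui⟩
  have hvk : k * v = v * k := Subgroup.mem_centralizer_iff.mp (hD1C hvD1) k hk
  have huv : u * v = v * u := hDc u huD v hvD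
  have hw : u * k ∈ K ⊔ Dp := Subgroup.mul_mem _ (Subgroup.mem_sup_right huDp) (Subgroup.mem_sup_left hk)
  obtain ⟨j, hj⟩ := hT ⟨u * k, hw⟩
  have hwj : (u * k) ^ (Nat.card K) ^ j = 1 := by
    have := congrArg Subtype.val hj
    simpa using this
  have hvw : Commute v (u * k) := by
    show v * (u * k) = u * k * v
    rw [← mul_assoc, ← huv, mul_assoc, mul_assoc, hvk]
  have heq : e * k * e⁻¹ = v * (u * k) := by
    rw [← mul_assoc, ← huv, ← hcuv, hcdef]; group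
  have hkp : k ^ Nat.card K = 1 := by
    have h1 : orderOf k ∣ Nat.card K := by
      have := orderOf_dvd_natCard (⟨k, hk⟩ : K)
      rwa [Subgroup.orderOf_mk] at this
    exact orderOf_dvd_iff_pow_eq_one.mp h1
  have hpow : (e * k * e⁻¹) ^ Nat.card K = 1 := by
    rw [conj_pow, hkp]; group
  have hv1 : v ^ (Nat.card K) ^ (j + 1) = 1 := by
    have h1 : (v * (u * k)) ^ (Nat.card K) ^ (j + 1) = 1 := by
      rw [← heq, pow_succ', pow_mul, hpow, one_pow]
    rw [hvw.mul_pow, pow_succ (Nat.card K) j, pow_mul (u * k), hwj, one_pow, mul_one] at h1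
    exact h1
  have hv1' : v = 1 := by
    have h1 : orderOf v ∣ (Nat.card K) ^ (j + 1) := orderOf_dvd_of_pow_eq_one hv1
    have h2 : (orderOf v).Coprime ((Nat.card K) ^ (j + 1)) := Nat.Coprime.pow_right _ hvcop
    exact orderOf_eq_one_iff.mp (Nat.Coprime.eq_one_of_dvd h2 h1)
  rw [heq, hv1', one_mul]
  exact hTMs hw

end SigH

end Cfsg.Agent.Lib.Helper1.BG15b
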