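import Mathlib
import Cfsg.Agent.Lib.Helper1.BG15b.SigE
import Cfsg.Agent.Lib.Helper18.FifteenTwoI
import Cfsg.Agent.Lib.Helper13.BG14P
import Cfsg.Agent.S1352

set_option autoImplicit false

namespace Cfsg.Agent.Lib.Helper1.BG15b

open Cfsg Cfsg.Agent.Lib.Helper18 Cfsg.Agent.Lib.Helper28.BGt
open Cfsg.Agent.Lib.Helper1.BG14b Cfsg.Agent.Lib.Helper1.BG14c
open Cfsg.Agent.Lib.Helper11.MaxSubB

variable {G : Type*} [Group G] [Finite G]

theorem exists_normalizer_not_mem_nil (N V : Subgroup G) (hN : Group.IsNilpotent N)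
    (hV : V ≤ N) (hne : ¬ N ≤ V) :
    ∃ x ∈ N, x ∉ V ∧ x ∈ Subgroup.normalizer (V : Set G) := by
  have hlt : V.subgroupOf N < ⊤ := by
    rw [lt_top_iff_ne_top]
    intro h
    apply hne
    rw [Subgroup.subgroupOf_eq_top] at h
    exact h
  have h1 := Group.normalizerCondition_of_isNilpotent (G := N) (V.subgroupOf N) hlt
  obtain ⟨x, hxN, hxR⟩ := SetLike.exists_of_lt h1
  refine ⟨x, x.2, fun h => hxR (Subgroup.mem_subgroupOf.2 h), ?_⟩
  rw [Subgroup.mem_normalizer_iff] at hxN ⊢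
  intro y
  constructor
  · intro hy
    have := (hxN ⟨y, hV hy⟩).1 (Subgroup.mem_subgroupOf.2 hy)
    simpa [Subgroup.mem_subgroupOf] using this
  · intro hy
    have hyP : y ∈ N := by
      have h2 : (x : G)⁻¹ * ((x : G) * y * (x : G)⁻¹) * (x : G) ∈ N :=
        N.mul_mem (N.mul_mem (N.inv_mem x.2) (hV hy)) x.2
      have h3 : (x : G)⁻¹ * ((x : G) * y * (x : G)⁻¹) * (x : G) = y := by group
      rwa [h3] at h2
    have := (hxN ⟨y, hyP⟩).2 (by simpa [Subgroup.mem_subgroupOf] using hy)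
    simpa [Subgroup.mem_subgroupOf] using this

namespace Sig

variable {M K U Ms : Subgroup G}

theorem hZ (c : Sig M K U Ms) :
    ∃ P : Subgroup G, IsPGroup (Nat.card K) P ∧ Ms ≤ Subgroup.normalizer (P : Set G) ∧ K ≤ P := by
  haveI : Fact (Nat.card K).Prime := ⟨c.pK⟩
  have h68 := Cfsg.Agent.S1368.result c.hG M c.hM K U c.hKU c.hK1 Ms c.hMs c.hKst c.hKstH
  haveI := h68.2
  have hKsc : IsCyclic ↥(Cfsg.sigmaCore M ⊓ Subgroup.centralizer (K : Set G)) :=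
    Subgroup.isCyclic_of_le (le_sup_right : _ ≤ K ⊔ (Cfsg.sigmaCore M ⊓ Subgroup.centralizer (K : Set G)))
  obtain ⟨Us, hUs⟩ := (Cfsg.Agent.S1352.result c.hG Ms c.hMs _ hKsc c.hKstH).1
  have h1 := Cfsg.Agent.Lib.Helper18.FifteenTwo.kstar_le_fittingOf c.hG c.hMs hUs
  rw [← c.hKst] at h1
  refine ⟨fP (Cfsg.sigmaCore Ms) (Nat.card K), fP_isPGroup _ _, ?_, ?_⟩
  · exact (le_normalizer_sigmaCore Ms).trans
      (Cfsg.Agent.Lib.Helper18.FifteenTwo.normalizer_le_normalizer_fP _ _)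
  · intro k hk
    refine ⟨h1 hk, 1, ?_⟩
    rw [pow_one]
    have h2 : orderOf k ∣ Nat.card K := by
      have := orderOf_dvd_natCard (⟨k, hk⟩ : K)
      rwa [Subgroup.orderOf_mk] at this
    exact orderOf_dvd_iff_pow_eq_one.mp h2

end Sig

namespace SigH

variable {M K U Ms H R : Subgroup G} {r : ℕ}

theorem Hσ_inf_Ms (d : SigH M K U Ms H R r) : Cfsg.sigmaCore H ⊓ Ms = ⊥ := by
  rw [eq_bot_iff, ← d.centK_H]
  intro w hw
  refine Subgroup.mem_inf.mpr ⟨hw.1, ?_⟩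
  rw [Subgroup.mem_centralizer_iff]
  intro k hk
  exact commute_of_cross d.inf_Ms (d.toSig.K_le_Msσ hk) (d.K_le_H hk) hw.1 hw.2

theorem exists_E (d : SigH M K U Ms H R r) :
    ∃ E : Subgroup G, Cfsg.IsComplIn E (Cfsg.sigmaCore H) H ∧ K ≤ E := by
  apply exists_compl_ge d.hG d.hH d.K_le_H
  intro q hq hqd
  rw [(Nat.prime_dvd_prime_iff_eq hq d.toSig.pK).mp hqd]
  exact d.p_not_sigma_H

theorem compl (d : SigH M K U Ms H R r) : Cfsg.IsComplIn (H ⊓ Ms) (Cfsg.sigmaCore H) H := by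
  obtain ⟨E, hE, hKE⟩ := d.exists_E
  have hEMs := d.E_le_Ms d.toSig.hZ hE hKE
  refine ⟨inf_le_left, sigmaCore_le H, ?_, ?_⟩
  · rw [eq_bot_iff, ← d.Hσ_inf_Ms]
    exact le_inf inf_le_right (inf_le_left.trans inf_le_right)
  · intro h hh
    obtain ⟨a, ha, b, hb, rfl⟩ := hE.2.2.2 h hh
    exact ⟨a, Subgroup.mem_inf.mpr ⟨hE.1 ha, hEMs ha⟩, b, hb, rfl⟩

theorem K_le_fit (d : SigH M K U Ms H R r) : K ≤ Cfsg.fittingOf (H ⊓ Ms) := by
  obtain ⟨P, hPp, hPn, hKP⟩ := d.toSig.hZ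
  haveI : Fact (Nat.card K).Prime := ⟨d.toSig.pK⟩
  have hW : P ⊓ (H ⊓ Ms) ≤ Cfsg.fittingOf (H ⊓ Ms) := by
    apply Cfsg.Agent.Lib.Helper18.BGFifteenA.le_fittingOf inf_le_right
    · intro g hg
      apply mem_normalizer_of_conjSub_le
      rintro _ ⟨x, hx, rfl⟩
      refine Subgroup.mem_inf.mpr ⟨conj_mem_of_le_normalizer hPn hg.2 hx.1, ?_⟩
      exact (H ⊓ Ms).mul_mem ((H ⊓ Ms).mul_mem hg hx.2) ((H ⊓ Ms).inv_mem hg)
    · exact (hPp.to_le inf_le_left).isNilpotent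
  exact (le_inf hKP (le_inf d.K_le_H d.toSig.K_le_Ms)).trans hW

theorem K_inf_U (d : SigH M K U Ms H R r) : K ⊓ U = ⊥ := by
  have h2 : U ⊓ (K ⊔ Cfsg.sigmaCore M) = ⊥ := d.hKU.compl.2.2.1
  rw [eq_bot_iff, ← h2]
  exact le_inf inf_le_right (inf_le_left.trans le_sup_left)

theorem U_le_Hσ (d : SigH M K U Ms H R r) : U ≤ Cfsg.sigmaCore H := by
  apply Cfsg.Agent.Lib.Helper13.BG14.bg14_le_sigmaCore_of_sigma_group d.hG d.hH d.U_le_H
  intro s hs hsU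
  by_contra hsσ
  haveI : Fact s.Prime := ⟨hs⟩
  have hUab := d.toSig.Uab
  have hUc : ∀ a ∈ U, ∀ b ∈ U, a * b = b * a := by
    intro a ha b hb
    exact congrArg Subtype.val ((isMulCommutative_iff.mp hUab) ⟨a, ha⟩ ⟨b, hb⟩)
  obtain ⟨Us, hUsdef⟩ : ∃ Us : Subgroup G, Us = Cfsg.Agent.Lib.Helper11.pPart U hUc s := ⟨_, rfl⟩
  have hUs1 : Us ≠ ⊥ := hUsdef ▸ Cfsg.Agent.Lib.Helper11.pPart_ne_bot U hUc s hsU
  have hUsU : Us ≤ U := hUsdef ▸ Cfsg.Agent.Lib.Helper11.pPart_le U hUc s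
  have hKUs : K ≤ Subgroup.normalizer (Us : Set G) := hUsdef ▸ pPart_normalizer hUc s d.toSig.K_normU
  have hUsp : IsPGroup s Us := hUsdef ▸ Cfsg.Agent.Lib.Helper11.pPart_isPGroup U hUc s
  have hinf : K ⊓ Us = ⊥ := by
    rw [eq_bot_iff, ← d.K_inf_U]
    exact inf_le_inf_left K hUsU
  have hY : K ⊔ Us ≤ H := sup_le d.K_le_H (hUsU.trans d.U_le_H)
  have hcard : Nat.card (K ⊔ Us : Subgroup G) = Nat.card K * Nat.card Us :=
    Cfsg.Agent.Lib.Helper1.BG12b.card_sup_of_inf_eq_bot hKUs hinf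
  have hYσ : ∀ q : ℕ, q.Prime → q ∣ Nat.card (K ⊔ Us : Subgroup G) → q ∉ Cfsg.sigma H := by
    intro q hq hqd
    rw [hcard] at hqd
    rcases (Nat.Prime.dvd_mul hq).mp hqd with h | h
    · rw [(Nat.prime_dvd_prime_iff_eq hq d.toSig.pK).mp h]
      exact d.p_not_sigma_H
    · obtain ⟨n, hn⟩ := IsPGroup.iff_card.mp hUsp
      rw [hn] at h
      rw [(Nat.prime_dvd_prime_iff_eq hq hs).mp (hq.dvd_of_dvd_pow h)]
      exact hsσ
  obtain ⟨E, hE, hYE⟩ := exists_compl_ge d.hG d.hH hY hYσ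
  have hEMs := d.E_le_Ms d.toSig.hZ hE (le_sup_left.trans hYE)
  have h1 : Us ≤ U ⊓ Ms := le_inf hUsU ((le_sup_right.trans hYE).trans hEMs)
  rw [d.toSig.U_inf_Ms] at h1
  exact hUs1 (eq_bot_iff.mpr h1)

theorem Mσ_inf_H (d : SigH M K U Ms H R r) : Cfsg.sigmaCore M ⊓ H = ⊥ := by
  rw [eq_bot_iff, ← d.toSig.centU]
  intro x hx
  refine Subgroup.mem_inf.mpr ⟨hx.1, ?_⟩
  rw [Subgroup.mem_centralizer_iff]
  intro u hu
  exact (commute_of_cross d.inf_M hx.1 hx.2 (d.U_le_Hσ hu) (d.toSig.U_le_M hu)).symm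

theorem M_inf_H (d : SigH M K U Ms H R r) : M ⊓ H = U ⊔ K := by
  apply le_antisymm
  · intro m hm
    obtain ⟨u, hu, b, hb, rfl⟩ := d.hKU.compl.2.2.2 m hm.1
    have hKn : K ≤ Subgroup.normalizer (Cfsg.sigmaCore M : Set G) :=
      d.toSig.K_le_M.trans (le_normalizer_sigmaCore M)
    have hb' : b ∈ ((K ⊔ Cfsg.sigmaCore M : Subgroup G) : Set G) := hb
    rw [Subgroup.coe_mul_of_left_le_normalizer_right K (Cfsg.sigmaCore M) hKn] at hb'
    obtain ⟨k, hk, s, hs, rfl⟩ := Set.mem_mul.mp hb'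
    have hsH : s ∈ H := by
      have e : s = k⁻¹ * (u⁻¹ * (u * (k * s))) := by group
      rw [e]
      exact H.mul_mem (H.inv_mem (d.K_le_H hk)) (H.mul_mem (H.inv_mem (d.U_le_H hu)) hm.2)
    have hs1 : s = 1 := by
      have := Subgroup.mem_inf.mpr ⟨hs, hsH⟩
      rwa [d.Mσ_inf_H, Subgroup.mem_bot] at this
    rw [hs1, mul_one]
    exact Subgroup.mul_mem _ (Subgroup.mem_sup_left hu) (Subgroup.mem_sup_right hk)
  · exact sup_le (le_inf d.toSig.U_le_M d.U_le_H) (le_inf d.toSig.K_le_M d.K_le_H)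

theorem not_le (d : SigH M K U Ms H R r) : ¬ H ⊓ Subgroup.normalizer (U : Set G) ≤ M := by
  intro hle
  by_cases hUeq : Cfsg.sigmaCore H ≤ U
  · have hUeq' : U = Cfsg.sigmaCore H := le_antisymm d.U_le_Hσ hUeq
    have h1 : H ≤ Subgroup.normalizer (U : Set G) := hUeq' ▸ le_normalizer_sigmaCore H
    have hHM : H ≤ M := (le_inf le_rfl h1).trans hle
    have h2 := eq_of_coatom_le d.hH d.hM hHM
    exact d.nM 1 (by rw [conjSub_one]; exact h2)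
  · obtain ⟨x, hxσ, hxU, hxN⟩ :=
      exists_normalizer_not_mem_nil (Cfsg.sigmaCore H) U d.Hσ_nilp d.U_le_Hσ hUeq
    have hxH : x ∈ H := sigmaCore_le H hxσ
    have hxM : x ∈ M ⊓ H := Subgroup.mem_inf.mpr ⟨hle (Subgroup.mem_inf.mpr ⟨hxH, hxN⟩), hxH⟩
    rw [d.M_inf_H] at hxM
    have hxM' : x ∈ ((U ⊔ K : Subgroup G) : Set G) := hxM
    rw [Subgroup.coe_mul_of_right_le_normalizer_left U K d.toSig.K_normU] at hxM'
    obtain ⟨u, hu, k, hk, rfl⟩ := Set.mem_mul.mp hxM'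
    have hkσ : k ∈ Cfsg.sigmaCore H := by
      have e : k = u⁻¹ * (u * k) := by group
      rw [e]
      exact (Cfsg.sigmaCore H).mul_mem ((Cfsg.sigmaCore H).inv_mem (d.U_le_Hσ hu)) hxσ
    have hk1 : k = 1 := by
      have := Subgroup.mem_inf.mpr ⟨hkσ, d.toSig.K_comm hk⟩
      rwa [d.centK_H, Subgroup.mem_bot] at this
    apply hxU
    rw [hk1, mul_one]
    exact hu

end SigH

end Cfsg.Agent.Lib.Helper1.BG15b
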