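import Mathlib
import Cfsg.Agent.Lib.Helper1.BG15b.SigF
import Cfsg.Agent.S1366

set_option autoImplicit false

namespace Cfsg.Agent.Lib.Helper1.BG15b

open Cfsg Cfsg.Agent.Lib.Helper18 Cfsg.Agent.Lib.Helper28.BGt
open Cfsg.Agent.Lib.Helper1.BG14b Cfsg.Agent.Lib.Helper1.BG14c

variable {G : Type*} [Group G] [Finite G]

theorem mk_sigH (hG : Cfsg.IsMinSimpleOddOrder G)
    {M : Subgroup G} (hM : IsCoatom M) {K U : Subgroup G} (hKU : Cfsg.IsSigmaDecomposition M K U)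
    (hK1 : K ≠ ⊥) (hU1 : U ≠ ⊥) {Mstar : Subgroup G} (hMstar : IsCoatom Mstar)
    (hKst : K = Cfsg.sigmaCore Mstar ⊓ Subgroup.centralizer ((Cfsg.sigmaCore M ⊓ Subgroup.centralizer (K : Set G)) : Set G))
    (hKstH : Cfsg.IsPiHallOf (Cfsg.kappa Mstar) (Cfsg.sigmaCore M ⊓ Subgroup.centralizer (K : Set G)) Mstar)
    (r : ℕ) [hrp : Fact r.Prime] (hr : r ∣ Nat.card U) (R : Sylow r U) {H : Subgroup G} (hH : IsCoatom H)
    (hNR : Subgroup.normalizer (((R : Subgroup U).map U.subtype : Subgroup G) : Set G) ≤ H) :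
    SigH M K U Mstar H ((R : Subgroup U).map U.subtype) r := by
  have c : Sig M K U Mstar := ⟨hG, hM, hKU, hK1, hU1, hMstar, hKst, hKstH⟩
  haveI := c.Uab
  have hRn : (R : Subgroup U).Normal := Subgroup.normal_of_isMulCommutative _
  haveI : (R : Subgroup U).Characteristic := Sylow.characteristic_of_normal R hRn
  have hNU := Cfsg.Agent.Lib.Helper10.KF.normalizer_range_le (R : Subgroup U) U.subtype
    (Subgroup.subtype_injective U)
  rw [Subgroup.range_subtype] at hNU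
  have hRc : Nat.card ((R : Subgroup U).map U.subtype : Subgroup G) =
      r ^ (Nat.card U).factorization r := by
    rw [Subgroup.card_map_of_injective (Subgroup.subtype_injective U)]
    exact R.card_eq_multiplicity
  exact ⟨c, hrp.out, Subgroup.map_subtype_le _, hRc, hr, hNU, hH, hNR⟩

theorem p2_signalizer (hG : Cfsg.IsMinSimpleOddOrder G)
    {M : Subgroup G} (hM : IsCoatom M) {K U : Subgroup G} (hKU : Cfsg.IsSigmaDecomposition M K U)
    (hK1 : K ≠ ⊥) (hU1 : U ≠ ⊥) {Mstar : Subgroup G} (hMstar : IsCoatom Mstar)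
    (hKst : K = Cfsg.sigmaCore Mstar ⊓ Subgroup.centralizer ((Cfsg.sigmaCore M ⊓ Subgroup.centralizer (K : Set G)) : Set G))
    (hKstH : Cfsg.IsPiHallOf (Cfsg.kappa Mstar) (Cfsg.sigmaCore M ⊓ Subgroup.centralizer (K : Set G)) Mstar)
    (r : ℕ) [Fact r.Prime] (hr : r ∣ Nat.card U) (R : Sylow r U) {H : Subgroup G} (hH : IsCoatom H)
    (hNR : Subgroup.normalizer (((R : Subgroup U).map U.subtype : Subgroup G) : Set G) ≤ H) :
    Cfsg.kappa H = ∅ ∧ U ≤ Cfsg.sigmaCore H ∧ M ⊓ H = U ⊔ K ∧ ¬ H ⊓ Subgroup.normalizer (U : Set G) ≤ M ∧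
      K ≤ Cfsg.fittingOf (H ⊓ Mstar) ∧ Cfsg.IsComplIn (H ⊓ Mstar) (Cfsg.sigmaCore H) H := by
  have d := mk_sigH hG hM hKU hK1 hU1 hMstar hKst hKstH r hr R hH hNR
  exact ⟨d.kappaH, d.U_le_Hσ, d.M_inf_H, d.not_le, d.K_le_fit, d.compl⟩

theorem normalizer_U_not_le (hG : Cfsg.IsMinSimpleOddOrder G)
    {M : Subgroup G} (hM : IsCoatom M) {K U : Subgroup G} (hKU : Cfsg.IsSigmaDecomposition M K U)
    (hK1 : K ≠ ⊥) (hU1 : U ≠ ⊥) : ¬ Subgroup.normalizer (U : Set G) ≤ M := by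
  haveI : IsSimpleGroup G := hG.2.1
  obtain ⟨Ms, ⟨hMs, hKst, hKstH⟩, -⟩ := Cfsg.Agent.S1366.result hG M hM K U hKU hK1
  have hc1 : Nat.card U ≠ 1 := fun h => hU1 (Subgroup.card_eq_one.mp h)
  obtain ⟨r, hr, hrU⟩ := Nat.exists_prime_and_dvd hc1
  haveI : Fact r.Prime := ⟨hr⟩
  obtain ⟨R⟩ : Nonempty (Sylow r U) := inferInstance
  obtain ⟨R', hR'def⟩ : ∃ R' : Subgroup G, R' = (R : Subgroup U).map U.subtype := ⟨_, rfl⟩
  have hR'card : Nat.card R' = r ^ (Nat.card U).factorization r := by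
    rw [hR'def, Subgroup.card_map_of_injective (Subgroup.subtype_injective U)]
    exact R.card_eq_multiplicity
  have hR'1 : R' ≠ ⊥ := by
    intro h
    rw [h, Subgroup.card_bot] at hR'card
    have h1 : 0 < (Nat.card U).factorization r :=
      (hr.factorization_pos_of_dvd (Nat.card_pos).ne' hrU)
    have h2 : 1 < r ^ (Nat.card U).factorization r := Nat.one_lt_pow h1.ne' hr.one_lt
    omega
  have hR'top : R' ≠ ⊤ := by
    intro h
    have h1 : R' ≤ M := hR'def ▸ (Subgroup.map_subtype_le _).trans hKU.compl.1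
    exact hM.1 (top_le_iff.mp (h ▸ h1))
  have hne := Cfsg.Agent.Lib.Helper11.normalizer_ne_top_of_simple hR'1 hR'top
  obtain ⟨H, hH, hNH⟩ := Cfsg.Agent.Lib.Helper11.BenderE.exists_coatom_ge _ hne
  rw [hR'def] at hNH
  have h := (p2_signalizer hG hM hKU hK1 hU1 hMs hKst hKstH r hrU R hH hNH).2.2.2.1
  intro hle
  exact h (inf_le_right.trans hle)

end Cfsg.Agent.Lib.Helper1.BG15b
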